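import Groth.Agent.Lib.CohDer22.Pi
import Groth.Agent.Lib.SiteDer.RlimMap
import Groth.Prelude.Def_DCoh2

/-! # Right derived functors preserve derived limits -/

set_option autoImplicit false
set_option linter.style.haveILetI false
set_option maxHeartbeats 800000
universe v u v' u' w w'

open CategoryTheory CategoryTheory.Limits HomologicalComplex Pretriangulated

namespace GrothLib.CohDer22

variable {A : Type u} [Category.{v} A] [Abelian A] [IsGrothendieckAbelian.{v} A] [HasDerivedCategory.{w} A]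
  {B : Type u'} [Category.{v'} B] [Abelian B] [HasDerivedCategory.{w'} B]
  [HasProductsOfShape ℕ B] [(lim : (Discrete ℕ ⥤ B) ⥤ B).PreservesEpimorphisms]
  (F : A ⥤ B) [F.Additive] [PreservesLimitsOfShape (Discrete ℕ) F]

/-- The derived functor computed by K-injective resolutions. -/
noncomputable abbrev RK : DerivedCategory A ⥤ DerivedCategory B :=
  GrothLib.KInj.res A ⋙ F.mapHomotopyCategory (ComplexShape.up ℤ) ⋙ DerivedCategory.Qh

theorem isIso_piComparison_RK [HasProductsOfShape ℕ A] (E : ℕ → DerivedCategory A) [HasProduct E]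
    [HasProduct fun n => (RK F).obj (E n)] : IsIso (piComparison (RK F) E) := by
  let q := HomotopyCategory.quotient A (ComplexShape.up ℤ)
  let qB := HomotopyCategory.quotient B (ComplexShape.up ℤ)
  let K : ℕ → CochainComplex A ℤ := fun n => ((GrothLib.KInj.res A).obj (E n)).as
  let L : ℕ → CochainComplex B ℤ := fun n => (F.mapHomologicalComplex (ComplexShape.up ℤ)).obj (K n)
  let hres := isLimitFanMkObjOfIsLimit (GrothLib.KInj.res A) _ _ (productIsProduct E)
  let e : (GrothLib.KInj.res A).obj (∏ᶜ E) ≅ q.obj (piC K) := hres.conePointUniqueUpToIso (isLimitHoFan K)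
  have he : ∀ n, e.hom ≫ q.map (proj K n) = (GrothLib.KInj.res A).map (Pi.π E n) := fun n =>
    hres.conePointUniqueUpToIso_hom_comp (isLimitHoFan K) ⟨n⟩
  let c : (F.mapHomologicalComplex (ComplexShape.up ℤ)).obj (piC K) ⟶ piC L :=
    lift fun n => (F.mapHomologicalComplex (ComplexShape.up ℤ)).map (proj K n)
  haveI : ∀ i, IsIso (c.f i) := fun i => by
    change IsIso (piComparison F fun n => (K n).X i)
    infer_instance
  haveI hc : IsIso c := HomologicalComplex.Hom.isIso_of_components c
  let κ := DerivedCategory.quotientCompQhIso B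
  let j : (RK F).obj (∏ᶜ E) ≅ DerivedCategory.Q.obj (piC L) :=
    (F.mapHomotopyCategory (ComplexShape.up ℤ) ⋙ DerivedCategory.Qh).mapIso e ≪≫
      DerivedCategory.Qh.mapIso (qB.mapIso (@asIso _ _ _ _ c hc)) ≪≫ κ.app (piC L)
  let k : ∀ n, (RK F).obj (E n) ≅ DerivedCategory.Q.obj (L n) := fun n => κ.app (L n)
  have hj : ∀ n, j.hom ≫ DerivedCategory.Q.map (proj L n) = (RK F).map (Pi.π E n) ≫ (k n).hom := fun n => by
    change ((F.mapHomotopyCategory (ComplexShape.up ℤ) ⋙ DerivedCategory.Qh).map e.hom ≫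
      DerivedCategory.Qh.map (qB.map c) ≫ κ.hom.app (piC L)) ≫ DerivedCategory.Q.map (proj L n) =
      (F.mapHomotopyCategory (ComplexShape.up ℤ) ⋙ DerivedCategory.Qh).map ((GrothLib.KInj.res A).map (Pi.π E n)) ≫
        κ.hom.app (L n)
    have hn : κ.hom.app (piC L) ≫ DerivedCategory.Q.map (proj L n) =
        DerivedCategory.Qh.map (qB.map (proj L n)) ≫ κ.hom.app (L n) := (κ.hom.naturality (proj L n)).symm
    have hb : DerivedCategory.Qh.map (qB.map c) ≫ DerivedCategory.Qh.map (qB.map (proj L n)) =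
        (F.mapHomotopyCategory (ComplexShape.up ℤ) ⋙ DerivedCategory.Qh).map (q.map (proj K n)) := by
      rw [← Functor.map_comp, ← Functor.map_comp, lift_proj]
      rfl
    rw [← he n, Category.assoc, Category.assoc, hn]
    refine Eq.trans ?_ (congrArg (· ≫ κ.hom.app (L n))
      ((F.mapHomotopyCategory (ComplexShape.up ℤ) ⋙ DerivedCategory.Qh).map_comp e.hom (q.map (proj K n))).symm)
    exact (congrArg ((F.mapHomotopyCategory (ComplexShape.up ℤ) ⋙ DerivedCategory.Qh).map e.hom ≫ ·)
      ((Category.assoc _ _ _).symm.trans (congrArg (· ≫ κ.hom.app (L n)) hb))).trans (Category.assoc _ _ _).symm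
  let l : (∏ᶜ fun n => (RK F).obj (E n)) ⟶ (RK F).obj (∏ᶜ E) :=
    (Qh_piC_exists_lift (K := L) fun n => Pi.π (fun n => (RK F).obj (E n)) n ≫ (k n).hom).choose ≫ j.inv
  have hl : ∀ n, (l ≫ j.hom) ≫ DerivedCategory.Q.map (proj L n) = Pi.π (fun n => (RK F).obj (E n)) n ≫ (k n).hom :=
    fun n => by
    rw [Category.assoc l, show l ≫ j.hom ≫ DerivedCategory.Q.map (proj L n) =
      (Qh_piC_exists_lift (K := L) fun n => Pi.π (fun n => (RK F).obj (E n)) n ≫ (k n).hom).choose ≫
        DerivedCategory.Q.map (proj L n) by simp [l]]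
    exact Exists.choose_spec (Qh_piC_exists_lift (K := L) fun n => Pi.π (fun n => (RK F).obj (E n)) n ≫ (k n).hom) n
  have h1 : l ≫ piComparison (RK F) E = 𝟙 _ := by
    refine Pi.hom_ext _ _ fun n => ?_
    rw [Category.assoc, piComparison_comp_π, Category.id_comp, ← cancel_mono (k n).hom, Category.assoc, ← hj,
      ← Category.assoc, hl]
  refine ⟨l, ?_, h1⟩
  rw [← cancel_mono j.hom]
  refine Qh_piC_hom_ext _ _ fun n => ?_
  rw [Category.assoc (piComparison (RK F) E), Category.assoc (piComparison (RK F) E), hl, ← Category.assoc,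
    piComparison_comp_π, Category.id_comp, hj]

theorem isRlim_RK [HasProductsOfShape ℕ A] (RF : DerivedCategory A ⥤ DerivedCategory B) (e : RF ≅ RK F)
    (K : ℕ → DerivedCategory A) (t : ∀ n, K (n + 1) ⟶ K n) (L : DerivedCategory A) [HasProduct K]
    [HasProduct fun n => RF.obj (K n)] (hL : DCoh.IsRlim K t L) :
    DCoh.IsRlim (fun n => RF.obj (K n)) (fun n => RF.map (t n)) (RF.obj L) := by
  haveI : (RK F).IsTriangulated := GrothLib.SiteDer.isTriangulated_res_map F
  letI := Functor.CommShift.ofIso e.symm ℤ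
  haveI := Functor.CommShift.ofIso_compatibility e.symm ℤ
  haveI := Functor.isTriangulated_of_iso e.symm
  haveI : HasProduct fun n => (RK F).obj (K n) :=
    hasLimit_of_iso (F := Discrete.functor fun n => RF.obj (K n))
      (G := Discrete.functor fun n => (RK F).obj (K n)) (Discrete.natIso fun n => e.app (K n.as))
  obtain ⟨a, c, hc⟩ := hL
  have hvia : CohCx.IsRlimVia K t L fun n => a ≫ Pi.π K n := ⟨c, by
    convert hc using 2
    exact Pi.hom_ext _ _ fun n => Pi.lift_π _ n⟩
  obtain ⟨c', hc'⟩ := GrothLib.SiteDer.isRlimVia_map RF hvia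
    (GrothLib.SiteDer.isIso_piComparison_of_iso e K (isIso_piComparison_RK F K))
  exact ⟨_, c', hc'⟩

end GrothLib.CohDer22
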