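import Mathlib.Algebra.Homology.DerivedCategory.Fractions
import Mathlib.Algebra.Homology.DerivedCategory.Basic
import Mathlib.Algebra.Homology.ShortComplex.ExactFunctor
import Mathlib.CategoryTheory.Limits.Preserves.Shapes.Products
import Mathlib.CategoryTheory.Adjunction.Limits
import Mathlib.CategoryTheory.Abelian.FunctorCategory

/-! # Products in homotopy and derived categories -/

set_option autoImplicit false
set_option linter.style.haveILetI false
set_option maxHeartbeats 800000
universe w v u v' u'

open CategoryTheory CategoryTheory.Limits HomologicalComplex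

namespace GrothLib.CohDer22

variable {J : Type} {B : Type u} [Category.{v} B] [Abelian B]

/-- A family of complexes as a complex of families. -/
def asFun (K : J → CochainComplex B ℤ) : CochainComplex (Discrete J ⥤ B) ℤ where
  X i := Discrete.functor fun j => (K j).X i
  d i i' := Discrete.natTrans fun j => (K j.as).d i i'
  shape i i' h := by
    ext j
    exact (K j.as).shape i i' h
  d_comp_d' i i' i'' _ _ := by
    ext j
    exact (K j.as).d_comp_d i i' i''

/-- A family of maps as a map of complexes of families. -/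
def asFunMap {K K' : J → CochainComplex B ℤ} (u : ∀ j, K j ⟶ K' j) : asFun K ⟶ asFun K' where
  f i := Discrete.natTrans fun j => (u j.as).f i
  comm' i i' _ := by
    ext j
    exact (u j.as).comm i i'

variable [HasProductsOfShape J B]

/-- The termwise product. -/
noncomputable abbrev piC (K : J → CochainComplex B ℤ) : CochainComplex B ℤ :=
  ((lim : (Discrete J ⥤ B) ⥤ B).mapHomologicalComplex (ComplexShape.up ℤ)).obj (asFun K)

/-- A projection. -/
noncomputable def proj (K : J → CochainComplex B ℤ) (j : J) : piC K ⟶ K j where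
  f i := limit.π (Discrete.functor fun j => (K j).X i) ⟨j⟩
  comm' i i' _ := by
    change limit.π (Discrete.functor fun j => (K j).X i) ⟨j⟩ ≫ (K j).d i i' =
      limMap ((asFun K).d i i') ≫ limit.π (Discrete.functor fun j => (K j).X i') ⟨j⟩
    exact (limMap_π ((asFun K).d i i') ⟨j⟩).symm

/-- The map into the product. -/
noncomputable def lift {X : CochainComplex B ℤ} {K : J → CochainComplex B ℤ} (f : ∀ j, X ⟶ K j) : X ⟶ piC K where
  f i := Pi.lift fun j => (f j).f i
  comm' i i' _ := by
    refine limit.hom_ext fun j => ?_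
    obtain ⟨j⟩ := j
    change ((Pi.lift fun j => (f j).f i) ≫ limMap ((asFun K).d i i')) ≫
        limit.π (Discrete.functor fun j => (K j).X i') ⟨j⟩ = (X.d i i' ≫ Pi.lift fun j => (f j).f i') ≫ limit.π _ ⟨j⟩
    refine (Category.assoc _ _ _).trans ((congrArg ((Pi.lift fun j => (f j).f i) ≫ ·) (limMap_π ((asFun K).d i i') ⟨j⟩)).trans ?_)
    refine ((Category.assoc _ _ _).symm.trans (congrArg (· ≫ (K j).d i i') (Pi.lift_π (fun j => (f j).f i) j))).trans ?_
    refine ((f j).comm i i').trans ?_
    exact ((congrArg (X.d i i' ≫ ·) (Pi.lift_π (fun j => (f j).f i') j)).symm.trans (Category.assoc _ _ _).symm)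

@[reassoc]
theorem lift_proj {X : CochainComplex B ℤ} {K : J → CochainComplex B ℤ} (f : ∀ j, X ⟶ K j) (j : J) :
    lift f ≫ proj K j = f j := by
  refine HomologicalComplex.hom_ext _ _ fun i => ?_
  exact Pi.lift_π (fun j => (f j).f i) j

/-- The product of maps. -/
noncomputable def piMap {K K' : J → CochainComplex B ℤ} (u : ∀ j, K j ⟶ K' j) : piC K ⟶ piC K' :=
  ((lim : (Discrete J ⥤ B) ⥤ B).mapHomologicalComplex (ComplexShape.up ℤ)).map (asFunMap u)

@[reassoc]
theorem piMap_proj {K K' : J → CochainComplex B ℤ} (u : ∀ j, K j ⟶ K' j) (j : J) :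
    piMap u ≫ proj K' j = proj K j ≫ u j := by
  refine HomologicalComplex.hom_ext _ _ fun i => ?_
  exact limMap_π ((asFunMap u).f i) ⟨j⟩

/-- Homotopies are componentwise. -/
theorem nonempty_homotopy {X : CochainComplex B ℤ} {K : J → CochainComplex B ℤ} (f g : X ⟶ piC K)
    (h : ∀ j, Nonempty (Homotopy (f ≫ proj K j) (g ≫ proj K j))) : Nonempty (Homotopy f g) := by
  let H := fun j => (h j).some
  refine ⟨{ hom := fun i i' => Pi.lift fun j => (H j).hom i i', zero := fun i i' hi => ?_, comm := fun i => ?_ }⟩
  · refine limit.hom_ext fun ⟨j⟩ => ?_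
    refine Eq.trans ?_ zero_comp.symm
    exact (Pi.lift_π (fun j => (H j).hom i i') j).trans ((H j).zero i i' hi)
  · refine limit.hom_ext fun ⟨j⟩ => ?_
    have hc := (H j).comm i
    rw [dNext_eq (H j).hom (show (ComplexShape.up ℤ).Rel i (i + 1) from rfl),
      prevD_eq (H j).hom (show (ComplexShape.up ℤ).Rel (i - 1) i by simp)] at hc
    let T : ∀ i i', X.X i ⟶ (piC K).X i' := fun i i' => Pi.lift fun j => (H j).hom i i'
    have hT : ∀ i i', T i i' ≫ (proj K j).f i' = (H j).hom i i' := fun i i' => Pi.lift_π (fun j => (H j).hom i i') j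
    change f.f i ≫ (proj K j).f i = (dNext i T + prevD i T + g.f i) ≫ (proj K j).f i
    rw [dNext_eq T (show (ComplexShape.up ℤ).Rel i (i + 1) from rfl),
      prevD_eq T (show (ComplexShape.up ℤ).Rel (i - 1) i by simp), Preadditive.add_comp, Preadditive.add_comp,
      Category.assoc, Category.assoc, hT, ← (proj K j).comm (i - 1) i, ← Category.assoc (T i (i - 1)), hT]
    exact hc

/-- The product fan in the homotopy category. -/
noncomputable abbrev hoFan (K : J → CochainComplex B ℤ) :
    Fan fun j => (HomotopyCategory.quotient B (ComplexShape.up ℤ)).obj (K j) :=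
  Fan.mk ((HomotopyCategory.quotient B (ComplexShape.up ℤ)).obj (piC K)) fun j =>
    (HomotopyCategory.quotient B (ComplexShape.up ℤ)).map (proj K j)

theorem hoFan_hom_ext {X : HomotopyCategory B (ComplexShape.up ℤ)} {K : J → CochainComplex B ℤ}
    (f g : X ⟶ (HomotopyCategory.quotient B (ComplexShape.up ℤ)).obj (piC K))
    (h : ∀ j, f ≫ (HomotopyCategory.quotient _ _).map (proj K j) = g ≫ (HomotopyCategory.quotient _ _).map (proj K j)) :
    f = g := by
  obtain ⟨X, rfl⟩ := HomotopyCategory.quotient_obj_surjective X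
  obtain ⟨f, rfl⟩ := (HomotopyCategory.quotient _ _).map_surjective f
  obtain ⟨g, rfl⟩ := (HomotopyCategory.quotient _ _).map_surjective g
  obtain ⟨H⟩ := nonempty_homotopy f g fun j => ⟨HomotopyCategory.homotopyOfEq _ _ (by
    rw [Functor.map_comp, Functor.map_comp]; exact h j)⟩
  exact HomotopyCategory.eq_of_homotopy _ _ H

noncomputable def isLimitHoFan (K : J → CochainComplex B ℤ) : IsLimit (hoFan K) :=
  Fan.IsLimit.mk _
    (fun f => (HomotopyCategory.quotient B (ComplexShape.up ℤ)).map
      (lift fun j => ((HomotopyCategory.quotient B (ComplexShape.up ℤ)).map_surjective (X := _) (Y := K j) (f.proj j)).choose))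
    (fun f j => by
      change (HomotopyCategory.quotient _ _).map _ ≫ (HomotopyCategory.quotient _ _).map (proj K j) = f.proj j
      rw [← Functor.map_comp, lift_proj]
      exact Exists.choose_spec ((HomotopyCategory.quotient B (ComplexShape.up ℤ)).map_surjective (f.proj j)))
    (fun f m hm => hoFan_hom_ext _ _ fun j => (hm j).trans (by
      change f.proj j = (HomotopyCategory.quotient _ _).map _ ≫ (HomotopyCategory.quotient _ _).map (proj K j)
      rw [← Functor.map_comp, lift_proj]
      exact (Exists.choose_spec ((HomotopyCategory.quotient B (ComplexShape.up ℤ)).map_surjective (f.proj j))).symm))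

section Derived

variable [HasDerivedCategory.{w} B] [(lim : (Discrete J ⥤ B) ⥤ B).PreservesEpimorphisms]

/-- A product of quasi-isomorphisms is a quasi-isomorphism. -/
theorem quasiIso_piMap {K K' : J → CochainComplex B ℤ} (u : ∀ j, K j ⟶ K' j) (h : ∀ j, QuasiIso (u j)) :
    QuasiIso (piMap u) := by
  haveI : PreservesLimitsOfSize.{0, 0} (lim : (Discrete J ⥤ B) ⥤ B) :=
    (constLimAdj (J := Discrete J) (C := B)).rightAdjoint_preservesLimits
  haveI : (lim : (Discrete J ⥤ B) ⥤ B).Additive := ⟨by intros; refine limit.hom_ext fun j => ?_; simp⟩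
  haveI : (lim : (Discrete J ⥤ B) ⥤ B).PreservesHomology :=
    Functor.preservesHomology_of_preservesEpis_and_kernels _
  haveI : QuasiIso (asFunMap u) := by
    refine ⟨fun i => (quasiIsoAt_iff_isIso_homologyMap _ i).2 ?_⟩
    rw [NatTrans.isIso_iff_isIso_app]
    intro j
    let F := (evaluation (Discrete J) B).obj j
    let φ := (shortComplexFunctor (Discrete J ⥤ B) (ComplexShape.up ℤ) i).map (asFunMap u)
    have hnat := ShortComplex.mapHomologyIso_hom_naturality φ F
    have hi : IsIso (@ShortComplex.homologyMap _ _ _ (((asFun K).sc i).map F) (((asFun K').sc i).map F)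
        (F.mapShortComplex.map φ) _ _) := by
      haveI : QuasiIsoAt (u j.as) i := (h j.as).quasiIsoAt i
      exact (quasiIsoAt_iff_isIso_homologyMap (u j.as) i).1 inferInstance
    haveI : IsIso ((((asFun K).sc i).mapHomologyIso F).hom ≫ F.map (ShortComplex.homologyMap φ)) := by
      rw [← hnat]
      exact IsIso.comp_isIso' hi inferInstance
    exact IsIso.of_isIso_comp_left (((asFun K).sc i).mapHomologyIso F).hom (F.map (ShortComplex.homologyMap φ))
  exact quasiIso_map_of_preservesHomology (asFunMap u) (lim : (Discrete J ⥤ B) ⥤ B)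

theorem Qh_piC_hom_ext {X : DerivedCategory B} {K : J → CochainComplex B ℤ}
    (f g : X ⟶ DerivedCategory.Q.obj (piC K))
    (h : ∀ j, f ≫ DerivedCategory.Q.map (proj K j) = g ≫ DerivedCategory.Q.map (proj K j)) : f = g := by
  suffices key : ∀ d : X ⟶ DerivedCategory.Q.obj (piC K), (∀ j, d ≫ DerivedCategory.Q.map (proj K j) = 0) → d = 0 from
    sub_eq_zero.1 (key (f - g) fun j => by rw [Preadditive.sub_comp, h j, sub_self])
  intro d hd
  let e := DerivedCategory.Q.objObjPreimageIso X
  suffices e.hom ≫ d = 0 from (cancel_epi e.hom).1 (this.trans comp_zero.symm)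
  obtain ⟨X', s, hs, m, hm⟩ := DerivedCategory.right_fac (e.hom ≫ d)
  have hm0 : ∀ j, DerivedCategory.Q.map (m ≫ proj K j) = 0 := fun j => by
    have h1 : (e.hom ≫ d) ≫ DerivedCategory.Q.map (proj K j) = 0 := by rw [Category.assoc, hd, comp_zero]
    rw [hm, Category.assoc, ← Functor.map_comp] at h1
    exact (cancel_epi (inv (DerivedCategory.Q.map s))).1 (h1.trans comp_zero.symm)
  have hu : ∀ j, ∃ (L : CochainComplex B ℤ) (u : K j ⟶ L), QuasiIso u ∧ Nonempty (Homotopy ((m ≫ proj K j) ≫ u) 0) := by
    intro j
    let q := HomotopyCategory.quotient B (ComplexShape.up ℤ)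
    have h1 : DerivedCategory.Qh.map (q.map (m ≫ proj K j)) = DerivedCategory.Qh.map (q.map 0) := by
      rw [q.map_zero, Functor.map_zero]
      refine (cancel_mono ((DerivedCategory.quotientCompQhIso B).hom.app (K j))).1 ?_
      refine ((DerivedCategory.quotientCompQhIso B).hom.naturality (m ≫ proj K j)).trans ?_
      rw [hm0, comp_zero, zero_comp]
    obtain ⟨Z, u, hu, fac⟩ := (MorphismProperty.map_eq_iff_postcomp DerivedCategory.Qh
      (HomotopyCategory.subcategoryAcyclic B).trW _ _).1 h1
    obtain ⟨L, rfl⟩ := HomotopyCategory.quotient_obj_surjective Z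
    obtain ⟨u, rfl⟩ := q.map_surjective u
    refine ⟨L, u, ?_, ⟨HomotopyCategory.homotopyOfEq _ _ ?_⟩⟩
    · rw [← HomotopyCategory.quasiIso_eq_trW_subcategoryAcyclic, HomotopyCategory.quotient_map_mem_quasiIso_iff] at hu
      exact (HomologicalComplex.mem_quasiIso_iff u).1 hu
    · rw [Functor.map_comp, fac, q.map_zero, zero_comp]
      rfl
  choose L u hu hh using hu
  haveI := quasiIso_piMap u hu
  obtain ⟨H⟩ := nonempty_homotopy (m ≫ piMap u) 0 fun j => by
    rw [Category.assoc, piMap_proj, zero_comp, ← Category.assoc]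
    exact hh j
  have h2 : DerivedCategory.Q.map m ≫ DerivedCategory.Q.map (piMap u) = 0 := by
    rw [← Functor.map_comp]
    refine (cancel_epi ((DerivedCategory.quotientCompQhIso B).hom.app _)).1 ?_
    refine ((DerivedCategory.quotientCompQhIso B).hom.naturality (m ≫ piMap u)).symm.trans ?_
    change DerivedCategory.Qh.map ((HomotopyCategory.quotient B _).map (m ≫ piMap u)) ≫ _ = _
    rw [show DerivedCategory.Qh.map ((HomotopyCategory.quotient B _).map (m ≫ piMap u)) = 0 by
      rw [HomotopyCategory.eq_of_homotopy _ _ H, Functor.map_zero, Functor.map_zero]]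
    simp
  haveI : IsIso (DerivedCategory.Q.map (piMap u)) := (DerivedCategory.isIso_Q_map_iff_quasiIso B _).2 inferInstance
  rw [hm, (cancel_mono (DerivedCategory.Q.map (piMap u))).1 (h2.trans zero_comp.symm), comp_zero]

theorem Qh_piC_exists_lift {X : DerivedCategory B} {K : J → CochainComplex B ℤ}
    (f : ∀ j, X ⟶ DerivedCategory.Q.obj (K j)) :
    ∃ l : X ⟶ DerivedCategory.Q.obj (piC K), ∀ j, l ≫ DerivedCategory.Q.map (proj K j) = f j := by
  let e := DerivedCategory.Q.objObjPreimageIso X
  choose L g s hs hf using fun j => DerivedCategory.left_fac (e.hom ≫ f j)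
  haveI : ∀ j, QuasiIso (s j) := fun j => (DerivedCategory.isIso_Q_map_iff_quasiIso B _).1 (hs j)
  haveI := quasiIso_piMap s fun j => inferInstance
  haveI : IsIso (DerivedCategory.Q.map (piMap s)) := (DerivedCategory.isIso_Q_map_iff_quasiIso B _).2 inferInstance
  refine ⟨e.inv ≫ DerivedCategory.Q.map (lift g) ≫ inv (DerivedCategory.Q.map (piMap s)), fun j => ?_⟩
  rw [Category.assoc, Category.assoc, Iso.inv_comp_eq, hf]
  haveI := hs j
  rw [IsIso.eq_comp_inv, Category.assoc, Category.assoc, ← Functor.map_comp (f := proj K j), ← piMap_proj,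
    Functor.map_comp, IsIso.inv_hom_id_assoc, ← Functor.map_comp, lift_proj]

end Derived

end GrothLib.CohDer22
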